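import Cfsg.Agent.Lib.ONanDesign36.Design

/-!
# Elements fixing a block pointwise

Such a non-identity element fixes at most one point off the block, and all its moved translates of
blocks have their common part inside that block.
-/

set_option autoImplicit false
set_option linter.style.haveILetI false

namespace Cfsg.Agent.Lib.ONanDesign36

open MulAction

universe u v

variable {G : Type u} {Ω : Type v} [Group G] [MulAction G Ω] {H : Subgroup G} {a : Ω}

/-- `g` lies in `H` and fixes its orbit pointwise. -/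
def Axial (H : Subgroup G) (a : Ω) (g : G) : Prop := g ∈ H ∧ ∀ w ∈ orbit H a, g • w = w

namespace Hyp

variable (h : Hyp H a)
include h

/-- A moved block meets its image inside the axis. -/
theorem meet_moved {g : G} (hg : Axial H a g) {y : G ⧸ H} (hy : g • y ≠ y) {w : Ω}
    (h1 : Inc H a w y) (h2 : Inc H a w (g • y)) : w ∈ orbit H a := by
  haveI := h.finΩ
  have hyB : y ≠ base H := fun e => hy (by rw [e, smul_base.2 hg.1])
  have hsub : meet H a y (base H) ⊆ meet H a y (g • y) := fun u hu =>
    ⟨hu.1, by rw [← hg.2 u (inc_base.1 hu.2)]; exact inc_smul.2 hu.1⟩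
  have e := Set.eq_of_subset_of_ncard_le hsub
    (le_of_eq ((h.meet_ne hy.symm).trans (h.meet_ne hyB).symm))
  exact inc_base.1 (show w ∈ meet H a y (base H) from e ▸ ⟨h1, h2⟩).2

/-- The blocks through a fixed point off the axis are fixed. -/
theorem fix_block {g : G} (hg : Axial H a g) {w : Ω} (hw : w ∉ orbit H a) (hgw : g • w = w)
    {y : G ⧸ H} (hy : Inc H a w y) : g • y = y :=
  by_contra fun hne => hw (h.meet_moved hg hne hy (by rw [← hgw]; exact inc_smul.2 hy))

/-- The blocks through two points contained in those through two others agree with them. -/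
theorem thru_eq_of_subset {v w v' w' : Ω} (hvw : v ≠ w) (hvw' : v' ≠ w')
    (hsub : thru H a v w ⊆ thru H a v' w') : thru H a v w = thru H a v' w' := by
  haveI := h.finY
  exact Set.eq_of_subset_of_ncard_le hsub (le_of_eq ((h.thru_ne hvw').trans (h.thru_ne hvw).symm))

/-- An axial element fixes at most one point off the axis. -/
theorem fixed_unique {g : G} (hg : Axial H a g) (hg1 : g ≠ 1) {P Q : Ω} (hP : P ∉ orbit H a)
    (hQ : Q ∉ orbit H a) (hgP : g • P = P) (hgQ : g • Q = Q) : P = Q := by
  by_contra hPQ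
  haveI := h.finY
  haveI := h.finΩ
  haveI := h.faithfulBlocks
  -- every moved point lies on all blocks through `P` and `Q`
  have hline : ∀ R : Ω, g • R ≠ R → ∀ y, Inc H a P y → Inc H a Q y → Inc H a R y := by
    intro R hR y hyP hyQ
    have key : ∀ X : Ω, X ∉ orbit H a → g • X = X → thru H a X R = thru H a R (g • R) := by
      intro X hX hgX
      have hXR : X ≠ R := fun e => hR (e ▸ hgX)
      exact h.thru_eq_of_subset hXR hR.symm fun z hz =>
        ⟨hz.2, by rw [← h.fix_block hg hX hgX hz.1]; exact inc_smul.2 hz.2⟩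
    have hsub : thru H a R (g • R) ⊆ thru H a P Q := fun z hz =>
      ⟨(show z ∈ thru H a P R from key P hP hgP ▸ hz).1,
        (show z ∈ thru H a Q R from key Q hQ hgQ ▸ hz).1⟩
    exact (show y ∈ thru H a R (g • R) from
      (h.thru_eq_of_subset hR.symm hPQ hsub) ▸ ⟨hyP, hyQ⟩).1
  obtain ⟨y₀, hy₀⟩ : ∃ y : G ⧸ H, g • y ≠ y := by
    by_contra hc
    push Not at hc
    exact hg1 (eq_of_smul_eq_smul (α := G ⧸ H) fun y => by rw [hc y, one_smul])
  have hy₀B : y₀ ≠ base H := fun e => hy₀ (by rw [e, smul_base.2 hg.1])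
  have hmoved : ∀ w, Inc H a w y₀ → w ∉ orbit H a → g • w ≠ w :=
    fun w hw hwB e => hy₀ (h.fix_block hg hwB e hw)
  have hone : (meet H a y₀ y₀ \ meet H a y₀ (base H)).ncard ≤ 1 := by
    rw [Set.ncard_le_one_iff]
    intro u v hu hv
    by_contra huv
    have hu' : u ∉ orbit H a := fun e => hu.2 ⟨hu.1.1, inc_base.2 e⟩
    have hv' : v ∉ orbit H a := fun e => hv.2 ⟨hv.1.1, inc_base.2 e⟩
    have hsub : thru H a P Q ⊆ thru H a u v := fun z hz =>
      ⟨hline u (hmoved u hu.1.1 hu') z hz.1 hz.2, hline v (hmoved v hv.1.1 hv') z hz.1 hz.2⟩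
    have : y₀ ∈ thru H a P Q := by
      rw [h.thru_eq_of_subset hPQ huv hsub]; exact ⟨hu.1.1, hv.1.1⟩
    exact hy₀ (h.fix_block hg hP hgP this.1)
  rw [Set.ncard_sdiff (show meet H a y₀ (base H) ⊆ meet H a y₀ y₀ from fun w hw => ⟨hw.1, hw.1⟩), ncard_meet_self, h.meet_ne hy₀B] at hone
  have hk : kk H a = lam H a + 1 := by
    have := h.lam_lt
    change (orbit H a).ncard - lam H a ≤ 1 at hone
    unfold kk at *
    omega
  have hp := h.param
  have h3 := h.k_add_two_le
  have hl := h.one_le_lam
  rw [hk, Nat.cast_add, Nat.cast_one, add_sub_cancel_right, mul_comm] at hp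
  have := mul_left_cancel₀ (by exact_mod_cast (by omega : lam H a ≠ 0)) hp
  omega

/-- An axial element fixes the orbit and at most one more point. -/
theorem k_le_fixed {g : G} (hg : Axial H a g) : kk H a ≤ Nat.card (fixedBy (G ⧸ H) g) := by
  haveI := h.finΩ
  rw [← h.fixed_eq, Nat.card_coe_set_eq]
  exact Set.ncard_le_ncard fun w hw => hg.2 w hw

end Hyp

end Cfsg.Agent.Lib.ONanDesign36
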