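import Cfsg.Agent.S3704
import Mathlib.GroupTheory.GroupAction.Quotient

/-!
# The symmetric design of a 2-transitive group with a subgroup of index equal to the degree

The points are `Ω`, the blocks are `G ⧸ H`; the block of `gH` is the translate by `g` of an orbit `Δ`
of `H`.  We prove that this is a symmetric design, that `G` is 2-transitive and faithful on blocks
and that an element fixes as many points as blocks.
-/

set_option autoImplicit false
set_option linter.style.haveILetI false

namespace Cfsg.Agent.Lib.ONanDesign36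

open MulAction

universe u v

variable {G : Type u} {Ω : Type v} [Group G] [MulAction G Ω]

/-- The hypotheses: `H` has index the degree, is intransitive and fixes no point; `a` names an orbit. -/
structure Hyp (H : Subgroup G) (a : Ω) : Prop where
  two : IsMultiplyPretransitive G Ω 2
  faithful : FaithfulSMul G Ω
  finG : Finite G
  finΩ : Finite Ω
  index : H.index = Nat.card Ω
  notTrans : ¬ IsPretransitive H Ω
  noFix : ∀ b : Ω, ∃ h : H, h • b ≠ b

/-- The point `w` lies on the block `y`. -/
def Inc (H : Subgroup G) (a : Ω) (w : Ω) (y : G ⧸ H) : Prop := y.out⁻¹ • w ∈ orbit H a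

/-- The block `H`. -/
abbrev base (H : Subgroup G) : G ⧸ H := ((1 : G) : G ⧸ H)

variable {H : Subgroup G} {a : Ω}

theorem inc_mk {g : G} {w : Ω} : Inc H a w (g : G ⧸ H) ↔ g⁻¹ • w ∈ orbit H a := by
  obtain ⟨k, hk⟩ := QuotientGroup.mk_out_eq_mul H g
  unfold Inc
  rw [hk, mul_inv_rev, mul_smul]
  constructor
  · rintro ⟨h, hh⟩
    exact ⟨k * h, by simp only [Subgroup.smul_def, Subgroup.coe_mul, mul_smul] at hh ⊢; rw [hh, smul_inv_smul]⟩
  · rintro ⟨h, hh⟩
    exact ⟨k⁻¹ * h, by simp only [Subgroup.smul_def, Subgroup.coe_mul, mul_smul] at hh ⊢; rw [hh]; rfl⟩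

theorem inc_base {w : Ω} : Inc H a w (base H) ↔ w ∈ orbit H a := by
  rw [base, inc_mk, inv_one, one_smul]

theorem inc_smul {g : G} {w : Ω} {y : G ⧸ H} : Inc H a (g • w) (g • y) ↔ Inc H a w y := by
  induction y using QuotientGroup.induction_on with
  | H k =>
    rw [show g • (k : G ⧸ H) = ((g * k : G) : G ⧸ H) from rfl, inc_mk, inc_mk, mul_inv_rev,
      mul_smul, inv_smul_smul]

theorem inc_inv_smul {g : G} {w : Ω} {y : G ⧸ H} : Inc H a w (g⁻¹ • y) ↔ Inc H a (g • w) y := by
  rw [← inc_smul (g := g), smul_inv_smul]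

theorem smul_base {g : G} : g • base H = base H ↔ g ∈ H := by
  rw [show g • base H = ((g * 1 : G) : G ⧸ H) from rfl, mul_one, eq_comm, base,
    QuotientGroup.eq, inv_one, one_mul]

/-- The blocks through two points. -/
def thru (H : Subgroup G) (a : Ω) (v w : Ω) : Set (G ⧸ H) := {y | Inc H a v y ∧ Inc H a w y}

theorem thru_smul (g : G) (v w : Ω) : thru H a (g • v) (g • w) = (g • ·) '' thru H a v w := by
  ext y
  constructor
  · rintro ⟨h1, h2⟩
    exact ⟨g⁻¹ • y, ⟨inc_inv_smul.2 h1, inc_inv_smul.2 h2⟩, smul_inv_smul g y⟩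
  · rintro ⟨z, ⟨h1, h2⟩, rfl⟩
    exact ⟨inc_smul.2 h1, inc_smul.2 h2⟩

/-- The points on two blocks. -/
def meet (H : Subgroup G) (a : Ω) (y z : G ⧸ H) : Set Ω := {w | Inc H a w y ∧ Inc H a w z}

theorem ncard_meet_self (y : G ⧸ H) : (meet H a y y).ncard = (orbit H a).ncard := by
  induction y using QuotientGroup.induction_on with
  | H g =>
    rw [← Set.ncard_image_of_injective (orbit H a) (MulAction.injective g)]
    congr 1
    ext w
    simp only [meet, Set.mem_setOf_eq, and_self, inc_mk, Set.mem_image]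
    exact ⟨fun h => ⟨_, h, smul_inv_smul g w⟩, fun ⟨u, hu, e⟩ => by rw [← e, inv_smul_smul]; exact hu⟩

namespace Hyp

variable (h : Hyp H a)
include h

theorem finY : Finite (G ⧸ H) := by haveI := h.finG; infer_instance

theorem card_blocks : Nat.card (G ⧸ H) = Nat.card Ω := by rw [← h.index]; rfl

theorem pretransitive : IsPretransitive G Ω := by
  haveI := h.two
  exact isPretransitive_of_is_two_pretransitive

theorem two_le_orbit (b : Ω) : 2 ≤ (orbit H b).ncard := by
  haveI := h.finΩ
  obtain ⟨x, hx⟩ := h.noFix b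
  exact (Set.one_lt_ncard (Set.toFinite _)).2 ⟨b, mem_orbit_self b, x • b, mem_orbit b x, hx.symm⟩

theorem exists_outside : ∃ w : Ω, w ∉ orbit H a := by
  by_contra hc
  push Not at hc
  exact h.notTrans ⟨fun x y => by
    obtain ⟨p, hp⟩ := hc x
    obtain ⟨q, hq⟩ := hc y
    exact ⟨q * p⁻¹, by rw [← hp, ← hq, mul_smul, inv_smul_smul]⟩⟩

theorem orbit_add_two_le : (orbit H a).ncard + 2 ≤ Nat.card Ω := by
  haveI := h.finΩ
  obtain ⟨w, hw⟩ := h.exists_outside
  have hd : Disjoint (orbit H a) (orbit H w) := by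
    rw [Set.disjoint_left]
    intro x hxa hxw
    exact hw ((orbit_eq_iff.2 hxa) ▸ (orbit_eq_iff.2 hxw) ▸ mem_orbit_self w)
  calc (orbit H a).ncard + 2 ≤ (orbit H a).ncard + (orbit H w).ncard :=
        Nat.add_le_add_left (h.two_le_orbit w) _
    _ = (orbit H a ∪ orbit H w).ncard := (Set.ncard_union_eq hd).symm
    _ ≤ Nat.card Ω := by rw [← Set.ncard_univ]; exact Set.ncard_le_ncard (Set.subset_univ _)

theorem exists_ne : ∃ v w : Ω, v ≠ w := by
  obtain ⟨x, hx⟩ := h.noFix a
  exact ⟨_, _, hx⟩

/-- The number of blocks through two given points. -/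
theorem exists_lam : ∃ l : ℕ, ∀ v w : Ω, v ≠ w → (thru H a v w).ncard = l := by
  obtain ⟨v₀, w₀, h0⟩ := h.exists_ne
  refine ⟨(thru H a v₀ w₀).ncard, fun v w hvw => ?_⟩
  obtain ⟨g, rfl, rfl⟩ := is_two_pretransitive_iff.1 h.two h0 hvw
  rw [thru_smul, Set.ncard_image_of_injective _ (MulAction.injective g)]

end Hyp

/-- The number of points of a block. -/
noncomputable def kk (H : Subgroup G) (a : Ω) : ℕ := (orbit H a).ncard

open Classical in
/-- The number of blocks through two different points. -/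
noncomputable def lam (H : Subgroup G) (a : Ω) : ℕ :=
  if h : ∃ l : ℕ, ∀ v w : Ω, v ≠ w → (thru H a v w).ncard = l then h.choose else 0

namespace Hyp

variable (h : Hyp H a)
include h

theorem thru_ne {v w : Ω} (hvw : v ≠ w) : (thru H a v w).ncard = lam H a := by
  rw [lam, dif_pos h.exists_lam]
  exact h.exists_lam.choose_spec v w hvw

theorem thru_self (v : Ω) : (thru H a v v).ncard = kk H a := by
  classical
  haveI := h.finY
  haveI := h.finΩ
  haveI := h.pretransitive
  haveI := Fintype.ofFinite Ω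
  haveI := Fintype.ofFinite (G ⧸ H)
  have hconst : ∀ w, (thru H a w w).ncard = (thru H a v v).ncard := fun w => by
    obtain ⟨g, rfl⟩ := exists_smul_eq G v w
    rw [thru_smul, Set.ncard_image_of_injective _ (MulAction.injective g)]
  have hsum : ∑ w : Ω, (thru H a w w).ncard = ∑ y : G ⧸ H, (meet H a y y).ncard := by
    have := Finset.sum_card_bipartiteAbove_eq_sum_card_bipartiteBelow
      (s := (Finset.univ : Finset Ω)) (t := (Finset.univ : Finset (G ⧸ H))) (fun w y => Inc H a w y)
    simpa [Finset.bipartiteAbove, Finset.bipartiteBelow, thru, meet, Set.ncard_eq_toFinset_card']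
      using this
  simp only [hconst, ncard_meet_self, Finset.sum_const, Finset.card_univ, smul_eq_mul,
    ← Nat.card_eq_fintype_card, h.card_blocks] at hsum
  haveI : Nonempty Ω := ⟨v⟩
  exact Nat.eq_of_mul_eq_mul_left Nat.card_pos hsum

theorem two_le_k : 2 ≤ kk H a := h.two_le_orbit a

theorem k_add_two_le : kk H a + 2 ≤ Nat.card Ω := h.orbit_add_two_le

open Classical in
theorem thru_eq (v w : Ω) :
    ((thru H a v w).ncard : ℤ) = if v = w then (kk H a : ℤ) else (lam H a : ℤ) := by
  rcases eq_or_ne v w with rfl | hvw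
  · rw [if_pos rfl, h.thru_self]
  · rw [if_neg hvw, h.thru_ne hvw]

theorem sum_meet (y₀ : G ⧸ H) [Fintype (G ⧸ H)] :
    (∑ y, ((meet H a y y₀).ncard : ℤ) = (kk H a : ℤ) * kk H a) ∧
    (∑ y, ((meet H a y y₀).ncard : ℤ) * (meet H a y y₀).ncard =
      (kk H a : ℤ) * kk H a + kk H a * ((kk H a : ℤ) - 1) * lam H a) := by
  classical
  haveI := h.finΩ
  haveI := Fintype.ofFinite Ω
  set B := (meet H a y₀ y₀).toFinset with hB
  have hBc : B.card = kk H a := by
    rw [hB, ← Set.ncard_eq_toFinset_card', ncard_meet_self]; rfl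
  have hmeet : ∀ y, ((meet H a y y₀).ncard : ℤ) = ∑ w ∈ B, if Inc H a w y then (1 : ℤ) else 0 := by
    intro y
    rw [Finset.sum_boole, Set.ncard_eq_toFinset_card']
    norm_cast
    congr 1
    ext w
    simp only [Set.mem_toFinset, Finset.mem_filter]
    simp only [hB, Set.mem_toFinset, Finset.mem_filter]
    simp [meet, and_comm]
  have hthru : ∀ v w : Ω, ∑ y : G ⧸ H, (if Inc H a v y ∧ Inc H a w y then (1 : ℤ) else 0) =
      (thru H a v w).ncard := fun v w => by
    rw [Finset.sum_boole, Set.ncard_eq_toFinset_card']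
    norm_cast
    congr 1
    ext y
    simp only [Set.mem_toFinset, Finset.mem_filter]
    simp [thru]
  constructor
  · simp only [hmeet]
    rw [Finset.sum_comm]
    have : ∀ w ∈ B, ∑ y : G ⧸ H, (if Inc H a w y then (1 : ℤ) else 0) = kk H a := fun w _ => by
      have := hthru w w
      simpa [h.thru_self] using this
    rw [Finset.sum_congr rfl this, Finset.sum_const, hBc, nsmul_eq_mul]
  · simp only [hmeet, Finset.sum_mul_sum]
    rw [Finset.sum_comm]
    have hin : ∀ v ∈ B, ∑ y : G ⧸ H, ∑ w ∈ B, (if Inc H a v y then (1 : ℤ) else 0) *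
        (if Inc H a w y then 1 else 0) = kk H a + ((kk H a : ℤ) - 1) * lam H a := by
      intro v hv
      rw [Finset.sum_comm]
      have : ∀ w ∈ B, ∑ y : G ⧸ H, (if Inc H a v y then (1 : ℤ) else 0) *
          (if Inc H a w y then 1 else 0) =
            (if v = w then ((kk H a : ℤ) - lam H a) else 0) + lam H a := by
        intro w _
        simp only [mul_ite, mul_one, mul_zero, ← ite_and]
        rw [show (∑ y : G ⧸ H, if Inc H a w y ∧ Inc H a v y then (1 : ℤ) else 0) = _ from hthru w v,
          h.thru_eq]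
        rcases eq_or_ne v w with rfl | hvw
        · simp
        · rw [if_neg hvw, if_neg hvw.symm, zero_add]
      rw [Finset.sum_congr rfl this, Finset.sum_add_distrib, Finset.sum_ite_eq, if_pos hv,
        Finset.sum_const, hBc, nsmul_eq_mul]
      ring
    rw [Finset.sum_congr rfl hin, Finset.sum_const, hBc, nsmul_eq_mul]
    ring

theorem param : (kk H a : ℤ) * ((kk H a : ℤ) - 1) = lam H a * ((Nat.card Ω : ℤ) - 1) := by
  classical
  haveI := h.finY
  haveI := h.finΩ
  haveI := Fintype.ofFinite Ω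
  haveI := Fintype.ofFinite (G ⧸ H)
  have e : ∑ w : Ω, ((thru H a a w).ncard : ℤ) = (kk H a : ℤ) * kk H a := by
    have h1 : ∀ w : Ω, ((thru H a a w).ncard : ℤ) =
        ∑ y ∈ Finset.univ.filter (fun y => Inc H a a y), if Inc H a w y then (1 : ℤ) else 0 := by
      intro w
      rw [Finset.sum_boole, Set.ncard_eq_toFinset_card']
      norm_cast
      congr 1
      ext y
      simp only [Set.mem_toFinset, Finset.mem_filter]
      simp [thru]
    simp only [h1]
    rw [Finset.sum_comm]
    have h2 : ∀ y ∈ Finset.univ.filter (fun y => Inc H a a y),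
        ∑ w : Ω, (if Inc H a w y then (1 : ℤ) else 0) = kk H a := fun y _ => by
      rw [Finset.sum_boole, kk, ← ncard_meet_self y, Set.ncard_eq_toFinset_card']
      norm_cast
      congr 1
      ext w
      simp only [Set.mem_toFinset, Finset.mem_filter]
      simp [meet]
    rw [Finset.sum_congr rfl h2, Finset.sum_const, nsmul_eq_mul]
    congr 1
    norm_cast
    rw [← h.thru_self a, Set.ncard_eq_toFinset_card']
    congr 1
    ext y
    simp only [Set.mem_toFinset, Finset.mem_filter]
    simp [thru]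
  have h3 : ∀ w : Ω, ((thru H a a w).ncard : ℤ) =
      (if a = w then ((kk H a : ℤ) - lam H a) else 0) + lam H a := fun w => by
    rw [h.thru_eq]
    split_ifs <;> simp
  simp only [h3, Finset.sum_add_distrib, Finset.sum_ite_eq, Finset.mem_univ, if_true,
    Finset.sum_const, Finset.card_univ, nsmul_eq_mul, ← Nat.card_eq_fintype_card] at e
  linarith

theorem one_le_lam : 1 ≤ lam H a := by
  by_contra hc
  have hp := h.param
  have h2 := h.two_le_k
  rw [show lam H a = 0 by omega, Nat.cast_zero, zero_mul] at hp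
  rcases mul_eq_zero.1 hp with e | e <;> omega

theorem lam_lt : lam H a < kk H a := by
  by_contra hc
  have hp := h.param
  have h2 := h.two_le_k
  have h3 := h.k_add_two_le
  have hc' : (kk H a : ℤ) ≤ lam H a := by exact_mod_cast Nat.le_of_not_lt hc
  have h3' : (kk H a : ℤ) + 2 ≤ Nat.card Ω := by exact_mod_cast h3
  nlinarith

/-- Two different blocks meet in `λ` points. -/
theorem meet_ne {y z : G ⧸ H} (hyz : y ≠ z) : (meet H a y z).ncard = lam H a := by
  classical
  haveI := h.finY
  haveI := Fintype.ofFinite (G ⧸ H)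
  obtain ⟨h1, h2⟩ := h.sum_meet z
  have hp := h.param
  rw [← h.card_blocks, Nat.card_eq_fintype_card] at hp
  set f : G ⧸ H → ℤ := fun y => ((meet H a y z).ncard : ℤ) with hf
  set l : ℤ := (lam H a : ℤ) with hl
  set k : ℤ := (kk H a : ℤ) with hk
  have hfz : f z = k := by simp only [hf, ncard_meet_self, hk, kk]
  have hc1 : ∑ y ∈ Finset.univ.erase z, f y = k * k - k := by
    rw [Finset.sum_erase_eq_sub (Finset.mem_univ z), h1, hfz]
  have hc2 : ∑ y ∈ Finset.univ.erase z, f y * f y = k * (k - 1) * l := by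
    rw [Finset.sum_erase_eq_sub (Finset.mem_univ z), h2, hfz]; ring
  have hc0 : ((Finset.univ.erase z).card : ℤ) = (Fintype.card (G ⧸ H) : ℤ) - 1 := by
    rw [Finset.card_erase_of_mem (Finset.mem_univ z), Finset.card_univ,
      Nat.cast_sub Fintype.card_pos]
    rfl
  have hzero : ∑ y ∈ Finset.univ.erase z, (f y - l) * (f y - l) = 0 := by
    have : ∀ y, (f y - l) * (f y - l) = f y * f y - 2 * l * f y + l * l := fun y => by ring
    simp only [this, Finset.sum_add_distrib, Finset.sum_sub_distrib, ← Finset.mul_sum,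
      Finset.sum_const, nsmul_eq_mul, hc1, hc2, hc0]
    linear_combination (-l) * hp
  have := (Finset.sum_eq_zero_iff_of_nonneg fun y _ => mul_self_nonneg _).1 hzero y
    (Finset.mem_erase.2 ⟨hyz, Finset.mem_univ y⟩)
  have := mul_self_eq_zero.1 this
  simp only [hf, hl] at this
  omega

/-- An element fixes as many points as blocks. -/
theorem fixed_eq (g : G) :
    Nat.card (fixedBy Ω g) = Nat.card (fixedBy (G ⧸ H) g) := by
  classical
  haveI := h.finY
  haveI := h.finΩ
  haveI := Fintype.ofFinite Ω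
  haveI := Fintype.ofFinite (G ⧸ H)
  have e := Finset.sum_card_bipartiteAbove_eq_sum_card_bipartiteBelow
      (s := (Finset.univ : Finset Ω)) (t := (Finset.univ : Finset (G ⧸ H)))
      (fun w y => Inc H a w y ∧ Inc H a (g • w) y)
  have hl : ∀ w : Ω, ((Finset.univ.bipartiteAbove (fun w y => Inc H a w y ∧ Inc H a (g • w) y) w).card : ℤ) =
      (if g • w = w then ((kk H a : ℤ) - lam H a) else 0) + lam H a := by
    intro w
    rw [show (Finset.univ.bipartiteAbove (fun w y => Inc H a w y ∧ Inc H a (g • w) y) w).card =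
        (thru H a w (g • w)).ncard by
      rw [Set.ncard_eq_toFinset_card']; congr 1; ext y; simp only [Set.mem_toFinset]; simp [Finset.bipartiteAbove, thru], h.thru_eq]
    simp only [eq_comm (a := w)]
    split_ifs <;> simp
  have hr : ∀ y : G ⧸ H,
      ((Finset.univ.bipartiteBelow (fun w y => Inc H a w y ∧ Inc H a (g • w) y) y).card : ℤ) =
      (if g • y = y then ((kk H a : ℤ) - lam H a) else 0) + lam H a := by
    intro y
    rw [show (Finset.univ.bipartiteBelow (fun w y => Inc H a w y ∧ Inc H a (g • w) y) y).card =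
        (meet H a y (g⁻¹ • y)).ncard by
      rw [Set.ncard_eq_toFinset_card']; congr 1; ext w
      simp only [Set.mem_toFinset]; simp [Finset.bipartiteBelow, meet, inc_inv_smul]]
    by_cases hy : g • y = y
    · rw [if_pos hy, show g⁻¹ • y = y by rw [inv_smul_eq_iff, hy], ncard_meet_self]
      simp [kk]
    · rw [if_neg hy, h.meet_ne (fun e' => hy (eq_inv_smul_iff.1 e')), zero_add]
  have e' : (∑ w : Ω, ((if g • w = w then ((kk H a : ℤ) - lam H a) else 0) + lam H a)) =
      ∑ y : G ⧸ H, ((if g • y = y then ((kk H a : ℤ) - lam H a) else 0) + lam H a) := by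
    rw [← Finset.sum_congr rfl fun w _ => hl w, ← Finset.sum_congr rfl fun y _ => hr y]
    exact_mod_cast e
  have hc : Fintype.card (G ⧸ H) = Fintype.card Ω := by
    rw [← Nat.card_eq_fintype_card, ← Nat.card_eq_fintype_card, h.card_blocks]
  simp only [Finset.sum_add_distrib, Finset.sum_const, Finset.card_univ, hc, add_left_inj,
    ← Finset.sum_filter, nsmul_eq_mul] at e'
  have hne : (kk H a : ℤ) - lam H a ≠ 0 := by have := h.lam_lt; omega
  have := mul_right_cancel₀ hne e'
  rw [Nat.card_coe_set_eq, Nat.card_coe_set_eq, Set.ncard_eq_toFinset_card', Set.ncard_eq_toFinset_card',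
    show (fixedBy Ω g).toFinset = Finset.univ.filter fun w => g • w = w by ext; simp,
    show (fixedBy (G ⧸ H) g).toFinset = Finset.univ.filter fun y => g • y = y by ext; simp]
  exact_mod_cast this

/-- `G` is faithful on blocks. -/
theorem faithfulBlocks : FaithfulSMul G (G ⧸ H) := by
  haveI := h.faithful
  haveI := h.finY
  haveI := h.finΩ
  refine ⟨fun {g₁ g₂} hg => ?_⟩
  have h1 : Nat.card (fixedBy (G ⧸ H) (g₂⁻¹ * g₁)) = Nat.card (G ⧸ H) := by
    have : fixedBy (G ⧸ H) (g₂⁻¹ * g₁) = Set.univ := Set.eq_univ_of_forall fun y => by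
      rw [mem_fixedBy, mul_smul, hg y, inv_smul_smul]
    rw [this, Nat.card_coe_set_eq, Set.ncard_univ]
  refine (inv_mul_eq_one.1 (eq_of_smul_eq_smul (α := Ω) fun w => ?_)).symm
  have h2 : fixedBy Ω (g₂⁻¹ * g₁) = Set.univ := by
    refine Set.eq_of_subset_of_ncard_le (Set.subset_univ _) ?_
    rw [Set.ncard_univ, ← Nat.card_coe_set_eq, h.fixed_eq, h1, h.card_blocks]
  rw [one_smul]
  exact (Set.eq_univ_iff_forall.1 h2 w)

/-- A subgroup has as many orbits on points as on blocks. -/
theorem card_orbits (S : Subgroup G) :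
    Nat.card (orbitRel.Quotient S Ω) = Nat.card (orbitRel.Quotient S (G ⧸ H)) := by
  classical
  haveI := h.finY
  haveI := h.finΩ
  haveI := h.finG
  haveI := Fintype.ofFinite Ω
  haveI := Fintype.ofFinite (G ⧸ H)
  haveI := Fintype.ofFinite S
  have e1 := sum_card_fixedBy_eq_card_orbits_mul_card_group (G := S) (X := Ω)
  have e2 := sum_card_fixedBy_eq_card_orbits_mul_card_group (G := S) (X := G ⧸ H)
  have e3 : ∀ s : S, Fintype.card (fixedBy Ω s) = Fintype.card (fixedBy (G ⧸ H) s) := fun s => by
    rw [← Nat.card_eq_fintype_card, ← Nat.card_eq_fintype_card]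
    exact h.fixed_eq (s : G)
  rw [Finset.sum_congr rfl fun s _ => e3 s, e2] at e1
  rw [Nat.card_eq_fintype_card, Nat.card_eq_fintype_card]
  exact (Nat.eq_of_mul_eq_mul_right Fintype.card_pos e1).symm

theorem exists_block_ne : ∃ y : G ⧸ H, y ≠ base H := by
  haveI := h.finY
  haveI : Nontrivial (G ⧸ H) := Finite.one_lt_card_iff_nontrivial.1 (by
    rw [h.card_blocks]; have := h.two_le_k; have := h.k_add_two_le; omega)
  exact _root_.exists_ne _

theorem transitive_outside {v w : Ω} (hv : v ∉ orbit H a) (hw : w ∉ orbit H a) :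
    ∃ x ∈ H, x • v = w := by
  haveI := h.finG
  haveI := h.finΩ
  haveI := h.faithful
  have e := Cfsg.Agent.S3704.result h.two H h.index h.notTrans h.noFix
  haveI : Finite (orbitRel.Quotient H Ω) := Finite.of_surjective _ Quotient.mk''_surjective
  have hne : ∀ u, u ∉ orbit H a → (Quotient.mk'' u : orbitRel.Quotient H Ω) ≠ Quotient.mk'' a :=
    fun u hu e' => hu (orbitRel_apply.1 (Quotient.eq''.1 e'))
  obtain ⟨x, hx, huniv⟩ := Nat.card_eq_two_iff.1 e
  have hall : ∀ q : orbitRel.Quotient H Ω, q = x ∨ q = hx := fun q => by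
    have := Set.eq_univ_iff_forall.1 huniv.2 q
    simpa using this
  have : (Quotient.mk'' w : orbitRel.Quotient H Ω) = Quotient.mk'' v := by
    rcases hall (Quotient.mk'' w) with e1 | e1 <;> rcases hall (Quotient.mk'' v) with e2 | e2 <;>
      rcases hall (Quotient.mk'' a) with e3 | e3
    all_goals first
      | exact e1.trans e2.symm
      | exact absurd (e1.trans e3.symm) (hne w hw)
      | exact absurd (e2.trans e3.symm) (hne v hv)
  obtain ⟨g, hg⟩ := orbitRel_apply.1 (Quotient.eq''.1 this)
  exact ⟨g, g.2, hg⟩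

theorem transitive_blocks {y z : G ⧸ H} (hy : y ≠ base H) (hz : z ≠ base H) :
    ∃ x ∈ H, x • y = z := by
  haveI := h.finG
  haveI := h.finΩ
  haveI := h.faithful
  haveI := h.finY
  have e := Cfsg.Agent.S3704.result h.two H h.index h.notTrans h.noFix
  rw [h.card_orbits H] at e
  haveI : Finite (orbitRel.Quotient H (G ⧸ H)) := Finite.of_surjective _ Quotient.mk''_surjective
  have hne : ∀ u, u ≠ base H →
      (Quotient.mk'' u : orbitRel.Quotient H (G ⧸ H)) ≠ Quotient.mk'' (base H) := by
    intro u hu e'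
    obtain ⟨x, hx⟩ := orbitRel_apply.1 (Quotient.eq''.1 e')
    exact hu (hx.symm.trans (smul_base.2 x.2))
  obtain ⟨p, q, -, huniv⟩ := Nat.card_eq_two_iff.1 e
  have hall : ∀ r : orbitRel.Quotient H (G ⧸ H), r = p ∨ r = q := fun r => by
    have := Set.eq_univ_iff_forall.1 huniv r
    simpa using this
  have : (Quotient.mk'' z : orbitRel.Quotient H (G ⧸ H)) = Quotient.mk'' y := by
    rcases hall (Quotient.mk'' z) with e1 | e1 <;> rcases hall (Quotient.mk'' y) with e2 | e2 <;>
      rcases hall (Quotient.mk'' (base H)) with e3 | e3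
    all_goals first
      | exact e1.trans e2.symm
      | exact absurd (e1.trans e3.symm) (hne z hz)
      | exact absurd (e2.trans e3.symm) (hne y hy)
  obtain ⟨g, hg⟩ := orbitRel_apply.1 (Quotient.eq''.1 this)
  exact ⟨g, g.2, hg⟩

/-- `G` is 2-transitive on blocks. -/
theorem twoBlocks : IsMultiplyPretransitive G (G ⧸ H) 2 := by
  rw [is_two_pretransitive_iff]
  intro y z y' z' hyz hyz'
  obtain ⟨g, hg⟩ := exists_smul_eq G y (base H)
  obtain ⟨g', hg'⟩ := exists_smul_eq G y' (base H)
  have h1 : g • z ≠ base H := fun e => hyz (smul_left_cancel g (hg.trans e.symm))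
  have h2 : g' • z' ≠ base H := fun e => hyz' (smul_left_cancel g' (hg'.trans e.symm))
  obtain ⟨x, hx, hxz⟩ := h.transitive_blocks h1 h2
  refine ⟨g'⁻¹ * x * g, ?_, ?_⟩
  · rw [mul_smul, mul_smul, hg, smul_base.2 hx, inv_smul_eq_iff, hg']
  · rw [mul_smul, mul_smul, hxz, inv_smul_smul]

end Hyp

end Cfsg.Agent.Lib.ONanDesign36
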