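import Cfsg.Agent.Lib.Partition73.Main
import Cfsg.Agent.Lib.Frobenius.Nilpotent
import Cfsg.Agent.Lib.Frobenius.Basic
import Cfsg.Agent.Lib.Linear.SL2
import Cfsg.Agent.Lib.Linear.Order
import Cfsg.Agent.Lib.Dickson.Setup
import Cfsg.Agent.S0035
import Cfsg.Agent.S1230
import Cfsg.Agent.Lib.Cores.Basic
import Cfsg.Agent.Lib.GorensteinWalter.Main

/-!
# Perfect groups without proper characteristic subgroups

Such a group has no Frobenius complement and has no partition in which no component contains a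
Sylow subgroup.
-/

set_option autoImplicit false
set_option linter.style.haveILetI false

namespace Cfsg.Agent.Lib.ONanDesign36

open Cfsg.Agent.Lib

universe u

variable {M : Type u} [Group M] [Finite M]

/-- A nontrivial perfect group without proper characteristic subgroups. -/
structure CharPerfect (M : Type u) [Group M] : Prop where
  perfect : Group.IsPerfect M
  nontrivial : Nontrivial M
  char : ∀ C : Subgroup M, C.Characteristic → C = ⊥ ∨ C = ⊤

namespace CharPerfect

variable (h : CharPerfect M)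
include h

omit [Finite M] in
theorem not_solvable (hs : Group.IsSolvable M) : False := by
  haveI := h.nontrivial
  haveI := hs
  exact (Group.IsSolvable.commutator_lt_top_of_nontrivial M).ne h.perfect.commutator_eq_top

omit [Finite M] in
theorem not_nilpotent (hn : Group.IsNilpotent M) : False := h.not_solvable inferInstance

omit [Finite M] in
theorem hom_trivial {C : Type*} [CommGroup C] (f : M →* C) (x : M) : f x = 1 := by
  have h1 : commutator M ≤ f.ker := Abelianization.commutator_subset_ker f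
  exact MonoidHom.mem_ker.1 (h1 (h.perfect.commutator_eq_top ▸ Subgroup.mem_top x))

/-- Nilpotent normal subgroups are trivial. -/
theorem nilpotent_bot (N : Subgroup M) (hN : N.Normal) (hn : Group.IsNilpotent N) : N = ⊥ := by
  haveI := hN
  rcases h.char (Cfsg.fittingSubgroup M) inferInstance with e | e
  · exact eq_bot_iff.2 (e ▸ Cores.le_fittingSubgroup hn)
  · exfalso
    have hF : Group.IsNilpotent ↥(⊤ : Subgroup M) := e ▸ Cores.fittingSubgroup_isNilpotent (G := M)
    exact h.not_nilpotent (Group.nilpotent_of_mulEquiv Subgroup.topEquiv)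

theorem not_frobenius {A : Subgroup M} (hA : Cfsg.IsFrobeniusComplement A) : False := by
  obtain ⟨N, hNset, hNn, hNA⟩ := Cfsg.Agent.S0035.result A hA
  haveI := hNn
  have hN1 : N ≠ ⊥ := by
    intro e
    rw [e] at hNA
    exact hA.2.1 (Subgroup.isComplement'_bot_left.1 hNA)
  refine hN1 (h.nilpotent_bot N hNn ?_)
  haveI : Nontrivial A := (Subgroup.nontrivial_iff_ne_bot A).2 hA.1
  obtain ⟨r, hr, hrd⟩ := Nat.exists_prime_and_dvd (show Nat.card A ≠ 1 from
    fun e => hA.1 (Subgroup.eq_bot_of_card_eq A e))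
  haveI := Fact.mk hr
  obtain ⟨y, hy⟩ := exists_prime_orderOf_dvd_card' r hrd
  have hy1 : (y : M) ≠ 1 := fun e => hr.ne_one (by rw [← hy, ← Subgroup.orderOf_coe, e, orderOf_one])
  let φ : N ≃* N := MulAut.conjNormal (y : M)
  refine Frobenius.Nilpotent.isNilpotent_of_fixedPointFree hr φ ?_ ?_
  · intro x hx
    have hc : (y : M) * x * (y : M)⁻¹ = x := congrArg Subtype.val hx
    have hxA : (x : M) ∈ A :=
      Frobenius.mem_of_commute hA y.2 hy1 (mul_inv_eq_iff_eq_mul.1 hc)
    exact Subtype.ext (Subgroup.disjoint_def.1 hNA.disjoint x.2 hxA)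
  · intro x
    have e : ∀ n : ℕ, (((⇑φ)^[n] x : N) : M) = (y : M) ^ n * x * ((y : M) ^ n)⁻¹ := by
      intro n
      induction n with
      | zero => simp
      | succ n ih =>
        rw [Function.iterate_succ_apply', show φ ((⇑φ)^[n] x) = MulAut.conjNormal (y : M) _ from rfl,
          MulAut.conjNormal_apply, ih, pow_succ']
        group
    exact Subtype.ext (by rw [e, ← hy, ← Subgroup.orderOf_coe, pow_orderOf_eq_one]; simp)

theorem not_hughes (hH : Partition73.IsHughes M) : False := by
  obtain ⟨p, hp, hne⟩ := hH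
  have hchar : (Subgroup.closure {g : M | g ^ p ≠ 1}).Characteristic := by
    refine Subgroup.characteristic_iff_map_le.2 fun e => ?_
    rw [MonoidHom.map_closure, Subgroup.closure_le]
    rintro _ ⟨g, hg, rfl⟩
    exact Subgroup.subset_closure fun e' => hg
      (e.injective (by rw [map_pow, map_one]; exact e'))
  have hb := (h.char _ hchar).resolve_right hne
  have hpow : ∀ g : M, g ^ p = 1 := fun g => by
    by_contra hg
    have hm : g ∈ Subgroup.closure {g : M | g ^ p ≠ 1} := Subgroup.subset_closure hg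
    rw [hb, Subgroup.mem_bot] at hm
    exact hg (by rw [hm, one_pow])
  haveI := Fact.mk hp
  have hP : IsPGroup p M := fun g => ⟨1, by rw [pow_one]; exact hpow g⟩
  exact h.not_nilpotent hP.isNilpotent

end CharPerfect

section PSL

variable {F : Type} [Field F] [Fintype F]

local notation "SL2" => Matrix.SpecialLinearGroup (Fin 2) F
local notation "PSL2" => Matrix.ProjectiveSpecialLinearGroup (Fin 2) F

omit [Fintype F] in
/-- A subgroup with a central non-scalar element is commutative. -/
theorem sl2_comm {Q : Subgroup SL2} {z : SL2} (hz : Linear.NonScalar z)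
    (hzc : ∀ x ∈ Q, x * z = z * x) : ∀ a ∈ Q, ∀ b ∈ Q, a * b = b * a := by
  intro a ha b hb
  obtain ⟨a0, a1, ea⟩ := Linear.exists_eq_add_smul_of_commute hz (hzc a ha)
  obtain ⟨b0, b1, eb⟩ := Linear.exists_eq_add_smul_of_commute hz (hzc b hb)
  apply Subtype.ext
  rw [Matrix.SpecialLinearGroup.coe_mul, Matrix.SpecialLinearGroup.coe_mul, ea, eb]
  simp only [add_mul, mul_add, smul_mul_assoc, mul_smul_comm, one_mul, mul_one, smul_smul, smul_add,
    mul_comm a0 b0, mul_comm a1 b1, mul_comm a0 b1, mul_comm a1 b0]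
  abel

/-- For some prime the Sylow subgroups of `PSL(2,q)` are non-trivial and cyclic. -/
theorem exists_cyclic_sylow (h4 : 4 ≤ Fintype.card F) :
    ∃ r : ℕ, r.Prime ∧ r ∣ Nat.card PSL2 ∧ ∀ S : Sylow r PSL2, IsCyclic S := by
  classical
  obtain ⟨c, hc⟩ := CharP.exists F
  haveI := hc
  haveI : Fact c.Prime := ⟨CharP.char_is_prime F c⟩
  obtain ⟨k, -, hk⟩ := FiniteField.card F c
  obtain ⟨d, hd1, hdodd, hdd⟩ : ∃ d : ℕ, 1 < d ∧ Odd d ∧
      (d ∣ Fintype.card F - 1 ∨ d ∣ Fintype.card F + 1) := by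
    rcases Nat.even_or_odd (Fintype.card F) with he | ho
    · obtain ⟨j, hj⟩ := he
      exact ⟨_, by omega, ⟨j - 1, by omega⟩, Or.inl dvd_rfl⟩
    · obtain ⟨j, hj⟩ := ho
      rcases Nat.even_or_odd j with ⟨i, hi⟩ | hjo
      · exact ⟨j + 1, by omega, ⟨i, by omega⟩, Or.inr ⟨2, by omega⟩⟩
      · exact ⟨j, by omega, hjo, Or.inl ⟨2, by omega⟩⟩
  set r := d.minFac with hr_def
  have hr : r.Prime := Nat.minFac_prime (by omega)
  haveI := Fact.mk hr
  have hr2 : r ≠ 2 := fun e => by
    have := Nat.minFac_dvd d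
    rw [← hr_def, e] at this
    exact Nat.not_even_iff_odd.2 hdodd (even_iff_two_dvd.2 this)
  have hrq : r ∣ Fintype.card F - 1 ∨ r ∣ Fintype.card F + 1 :=
    hdd.imp (Nat.minFac_dvd d).trans (Nat.minFac_dvd d).trans
  have hrc : r ≠ c := by
    intro e
    have hcq : r ∣ Fintype.card F := by rw [e, hk]; exact dvd_pow_self c k.ne_zero
    rcases hrq with h1 | h1
    · have := Nat.dvd_sub hcq h1
      rw [show Fintype.card F - (Fintype.card F - 1) = 1 by omega] at this
      exact hr.not_dvd_one this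
    · exact hr.not_dvd_one ((Nat.dvd_add_right hcq).1 h1)
  have hrSL : r ∣ Nat.card SL2 := by
    rw [Linear.card_SL_two]
    rcases hrq with h1 | h1
    · exact Dvd.dvd.mul_right (Dvd.dvd.mul_left h1 _) _
    · exact Dvd.dvd.mul_left h1 _
  set π : SL2 →* PSL2 := QuotientGroup.mk' _ with hπ
  have hπs : Function.Surjective π := QuotientGroup.mk'_surjective _
  have hns : ∀ z : SL2, orderOf z ∣ 2 → ∀ j : ℕ, orderOf z = r ^ j → z = 1 := by
    intro z hz j hj
    rw [hj] at hz
    rcases Nat.eq_zero_or_pos j with rfl | hj0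
    · exact orderOf_eq_one_iff.1 (by rw [hj, pow_zero])
    · exact absurd ((Nat.prime_dvd_prime_iff_eq hr Nat.prime_two).1
        ((dvd_pow_self r hj0.ne').trans hz)) hr2
  have hscal : ∀ z : SL2, ¬ Linear.NonScalar z → orderOf z ∣ 2 := by
    intro z hz
    unfold Linear.NonScalar at hz
    push Not at hz
    obtain ⟨b, hb⟩ := hz
    have hdet := z.2
    rw [hb, Matrix.det_smul, Matrix.det_one, mul_one, Fintype.card_fin] at hdet
    refine orderOf_dvd_of_pow_eq_one (Subtype.ext ?_)
    rw [Matrix.SpecialLinearGroup.coe_pow, hb, sq, smul_mul_smul_comm, mul_one, ← sq, hdet,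
      one_smul]
    rfl
  have hcyc : ∀ Q : Sylow r SL2, IsCyclic Q := by
    intro Q
    haveI : Nontrivial (Q : Subgroup SL2) :=
      (Subgroup.nontrivial_iff_ne_bot _).2 (Q.ne_bot_of_dvd_card hrSL)
    haveI := Q.2.center_nontrivial
    obtain ⟨z, hz⟩ := exists_ne (1 : Subgroup.center (Q : Subgroup SL2))
    have hz1 : ((z : Q) : SL2) ≠ 1 := fun e => hz (Subtype.ext (Subtype.ext e))
    obtain ⟨j, hj⟩ := IsPGroup.iff_orderOf.1 Q.2 (z : Q)
    rw [← Subgroup.orderOf_coe] at hj
    have hnsz : Linear.NonScalar ((z : Q) : SL2) := by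
      by_contra hn
      exact hz1 (hns _ (hscal _ hn) j hj)
    have hzc : ∀ x ∈ (Q : Subgroup SL2), x * ((z : Q) : SL2) = ((z : Q) : SL2) * x :=
      fun x hx => congrArg Subtype.val (Subgroup.mem_center_iff.1 z.2 ⟨x, hx⟩)
    refine Linear.isCyclic_of_comm_of_coprime c _ (sl2_comm hnsz hzc) ?_
    obtain ⟨e, he⟩ := IsPGroup.iff_card.1 Q.2
    rw [he]
    exact ((Nat.coprime_primes hr Fact.out).2 hrc).pow_left e
  refine ⟨r, hr, ?_, fun S => ?_⟩
  · obtain ⟨x, hx⟩ := exists_prime_orderOf_dvd_card' r hrSL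
    have hd : orderOf (π x) ∣ r := hx ▸ orderOf_map_dvd π x
    rcases (Nat.dvd_prime hr).1 hd with e | e
    · exfalso
      have hxc : x ∈ Subgroup.center SL2 := (QuotientGroup.eq_one_iff x).1 (orderOf_eq_one_iff.1 e)
      obtain ⟨b, hb, he⟩ := Matrix.SpecialLinearGroup.mem_center_iff.1 hxc
      have := hns x (hscal x (fun hn => hn b (by
        rw [← he, Matrix.scalar_apply, ← Matrix.smul_one_eq_diagonal]))) 1 (by rw [hx, pow_one])
      rw [this, orderOf_one] at hx
      exact hr.ne_one hx.symm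
    · exact e ▸ orderOf_dvd_natCard _
  · obtain ⟨Q, rfl⟩ := Sylow.mapSurjective_surjective hπs r S
    haveI := hcyc Q
    rw [Sylow.coe_mapSurjective]
    exact isCyclic_of_surjective (π.subgroupMap (Q : Subgroup SL2))
      (π.subgroupMap_surjective (Q : Subgroup SL2))

/-- The determinant modulo squares on the projective general linear group. -/
theorem exists_pgl_hom :
    ∃ f : (GL (Fin 2) F ⧸ Subgroup.center (GL (Fin 2) F)) →* (Fˣ ⧸ (powMonoidHom 2 : Fˣ →* Fˣ).range),
      Function.Surjective f := by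
  let f0 : GL (Fin 2) F →* (Fˣ ⧸ (powMonoidHom 2 : Fˣ →* Fˣ).range) :=
    (QuotientGroup.mk' _).comp Matrix.GeneralLinearGroup.det
  have hc : Subgroup.center (GL (Fin 2) F) ≤ f0.ker := by
    intro z hz
    rw [Matrix.GeneralLinearGroup.center_eq_range_scalar] at hz
    obtain ⟨b, rfl⟩ := hz
    rw [MonoidHom.mem_ker]
    exact (QuotientGroup.eq_one_iff _).2 ⟨b, Units.ext (by
      simp [Matrix.GeneralLinearGroup.scalar, powMonoidHom, Matrix.det_fin_two, sq])⟩
  refine ⟨QuotientGroup.lift _ f0 hc, fun y => ?_⟩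
  induction y using QuotientGroup.induction_on with
  | H b =>
    obtain ⟨g, hg⟩ : ∃ g : GL (Fin 2) F, Matrix.GeneralLinearGroup.det g = b :=
      ⟨Matrix.GeneralLinearGroup.mkOfDetNeZero !![(b : F), 0; 0, 1] (by simp [Matrix.det_fin_two_of]),
        Units.ext (by simp [Matrix.GeneralLinearGroup.mkOfDetNeZero, Matrix.det_fin_two_of])⟩
    exact ⟨g, by simp [f0, hg]⟩

end PSL

namespace CharPerfect

variable (h : CharPerfect M)
include h

/-- A partition has a component containing a Sylow subgroup. -/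
theorem no_partition (P : Partition73.Part M)
    (hkey : ∀ r : ℕ, r.Prime → r ∣ Nat.card M → ∀ S : Sylow r M, ∀ g : M, g ≠ 1 →
      ¬ (S : Subgroup M) ≤ P.comp g) : False := by
  haveI := h.nontrivial
  have hnc : ∀ r : ℕ, r.Prime → r ∣ Nat.card M → ∀ S : Sylow r M, ¬ IsCyclic S := by
    intro r hr hd S hS
    haveI := Fact.mk hr
    haveI := hS
    obtain ⟨g, hg⟩ := IsCyclic.exists_generator (α := (S : Subgroup M))
    have hg1 : (g : M) ≠ 1 := by
      intro e
      refine S.ne_bot_of_dvd_card hd (eq_bot_iff.2 fun x hx => ?_)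
      obtain ⟨i, hi⟩ := Subgroup.mem_zpowers_iff.1 (hg ⟨x, hx⟩)
      have := congrArg Subtype.val hi
      rw [Subgroup.coe_zpow, e, one_zpow] at this
      exact Subgroup.mem_bot.2 this.symm
    refine hkey r hr hd S g hg1 fun x hx => ?_
    obtain ⟨i, hi⟩ := Subgroup.mem_zpowers_iff.1 (hg ⟨x, hx⟩)
    have := congrArg Subtype.val hi
    rw [Subgroup.coe_zpow] at this
    exact (show x = (g : M) ^ i from this.symm) ▸ zpow_mem (P.mem _) i
  have hPSL : ∀ (F : Type) [Field F] [Fintype F], 4 ≤ Fintype.card F →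
      ¬ Nonempty (M ≃* Matrix.ProjectiveSpecialLinearGroup (Fin 2) F) := by
    rintro F _ _ h4 ⟨e⟩
    obtain ⟨r, hr, hd, hall⟩ := exists_cyclic_sylow h4
    haveI := Fact.mk hr
    rw [← Nat.card_congr e.toEquiv] at hd
    obtain ⟨S⟩ := (inferInstance : Nonempty (Sylow r M))
    haveI : IsCyclic ↥((S : Subgroup M).map e.toMonoidHom) := by
      have := hall (S.mapSurjective (f := e.toMonoidHom) e.surjective)
      exact this
    exact hnc r hr hd S (isCyclic_of_injective (e.toMonoidHom.subgroupMap (S : Subgroup M))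
      fun x y hxy => Subtype.ext (e.injective (congrArg Subtype.val hxy)))
  have hnormal : ∀ N : Subgroup M, N.Normal → IsMulCommutative N → N = ⊥ := fun N hN hc =>
    h.nilpotent_bot N hN (by haveI := hc; exact ⟨1, by rw [Subgroup.upperCentralSeries_one, Subgroup.center_eq_top]⟩)
  have hNo : P.NoNormal := by
    intro g hg hn
    haveI := hn
    rcases P.of_normal hg with e | ⟨A, hA⟩
    · exact h.not_hughes e
    · exact h.not_frobenius hA
  have hs : Partition73.SemiHyp P := ⟨hNo, hnormal, exists_ne 1⟩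
  haveI : Fact (Nat.Prime 2) := ⟨Nat.prime_two⟩
  obtain ⟨t₀, ht₀⟩ := hs.exists_invol
  have h2 : 2 ∣ Nat.card M := ht₀ ▸ orderOf_dvd_natCard _
  have hI : ∀ t : M, orderOf t = 2 → ¬ P.TypeOne t := by
    intro t ht hone
    obtain ⟨S, z, -, hzS, hz, hzc⟩ := Partition73.Part.exists_central ht
    exact hkey 2 Nat.prime_two h2 S z (fun e => by rw [e, orderOf_one] at hz; omega)
      fun x hx => P.typeOne_all hone ht hz x (hzc x hx)
  by_cases hII : ∀ t : M, orderOf t = 2 → Partition73.TypeTwo t
  · obtain ⟨T⟩ := (inferInstance : Nonempty (Sylow 2 M))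
    have hnn : ¬ (T : Subgroup M).Normal := by
      intro hn
      exact T.ne_bot_of_dvd_card h2 (h.nilpotent_bot _ hn T.2.isNilpotent)
    have hcomm : ∀ t : M, orderOf t = 2 → ∀ a b : Subgroup.centralizer ({t} : Set M),
        (a : M) * b = b * a := by
      intro t ht a b
      have hA := Subgroup.mem_centralizer_singleton_iff.1 a.2
      have hB := Subgroup.mem_centralizer_singleton_iff.1 b.2
      have hab := hII t ht _ ((show Commute (a : M) t from hA).mul_left hB).eq
      calc (a : M) * b = (a : M) * (a * b * (a * b)) * b := by rw [hab, mul_one]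
        _ = (a * a) * (b * a) * (b * b) := by group
        _ = b * a := by rw [hII t ht _ hA, hII t ht _ hB, one_mul, mul_one]
    obtain ⟨F, i, j, hF, e⟩ := Cfsg.Agent.S1230.result T (hnc 2 Nat.prime_two h2 T) hnn
      (fun t ht => ⟨⟨⟨fun a b => Subtype.ext (hcomm t ht a b)⟩⟩, fun c hc => by
        rw [sq]; exact hII t ht c (Subgroup.mem_centralizer_singleton_iff.1 hc)⟩)
    refine hPSL F ?_ e
    rw [hF]
    obtain ⟨k, hk⟩ := IsPGroup.iff_card.1 T.2
    rcases k with _ | _ | k
    · exact absurd (Subgroup.card_eq_one.1 (by rw [hk, pow_zero])) (T.ne_bot_of_dvd_card h2)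
    · exact absurd (isCyclic_of_prime_card (p := 2) (by rw [hk]; rfl)) (hnc 2 Nat.prime_two h2 T)
    · rw [hk, pow_succ, pow_succ]
      have : 1 ≤ 2 ^ k := Nat.one_le_two_pow
      omega
  push Not at hII
  obtain ⟨t, ht, htII⟩ := hII
  obtain ⟨S, z, v, h3⟩ := Partition73.exists_three hI ht htII
  rcases h3.oddType hs hI GorensteinWalter.propMainFinal with
    ⟨F, _, _, h4, e⟩ | ⟨F, _, _, -, hodd, ⟨e⟩⟩
  · exact hPSL F h4 e
  · obtain ⟨f, hf⟩ := exists_pgl_hom (F := F)
    obtain ⟨b, hb⟩ := FiniteField.exists_nonsquare (F := F) (fun e' => by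
      have := FiniteField.even_card_of_char_two e'
      rw [Nat.odd_iff] at hodd
      omega)
    have hb0 : b ≠ 0 := fun e' => hb (by rw [e']; exact ⟨0, (mul_zero 0).symm⟩)
    obtain ⟨x, hx⟩ := hf (QuotientGroup.mk (Units.mk0 b hb0))
    have := h.hom_trivial (C := Fˣ ⧸ (powMonoidHom 2 : Fˣ →* Fˣ).range) (f.comp e.toMonoidHom) (e.symm x)
    simp only [MonoidHom.comp_apply, MulEquiv.coe_toMonoidHom, MulEquiv.apply_symm_apply, hx] at this
    obtain ⟨c, hc⟩ := (QuotientGroup.eq_one_iff _).1 this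
    exact hb ⟨c, by
      have := congrArg Units.val hc
      simpa [powMonoidHom, sq] using this.symm⟩

end CharPerfect

end Cfsg.Agent.Lib.ONanDesign36
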