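import Cfsg.Agent.Lib.ONanDesign36.Axial
import Cfsg.Agent.Lib.ONanDesign36.Perfect
import Cfsg.Agent.Lib.ONan36.Reduce
import Cfsg.Agent.Lib.ONan36.Recog

/-!
# A subgroup of index the degree which is unfaithful on one of its orbits

The pointwise stabiliser of the orbit then contains an abelian normal subgroup of `H`, which is not
semiregular on the blocks; so O'Nan's theorem applies to the blocks.
-/

set_option autoImplicit false
set_option linter.style.haveILetI false

namespace Cfsg.Agent.Lib.ONanDesign36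

open MulAction

universe u v

variable {G : Type u} {Ω : Type v} [Group G] [MulAction G Ω] {H : Subgroup G} {a : Ω}

/-- The elements of `H` fixing the orbit pointwise. -/
def axGroup (H : Subgroup G) (a : Ω) : Subgroup H where
  carrier := {x | ∀ w ∈ orbit H a, (x : G) • w = w}
  one_mem' w _ := one_smul G w
  mul_mem' {x y} hx hy w hw := by rw [Subgroup.coe_mul, mul_smul, hy w hw, hx w hw]
  inv_mem' {x} hx w hw := by rw [Subgroup.coe_inv, inv_smul_eq_iff, hx w hw]

theorem mem_axGroup {x : H} : x ∈ axGroup H a ↔ Axial H a (x : G) :=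
  ⟨fun h => ⟨x.2, h⟩, fun h => h.2⟩

instance axGroup_normal : (axGroup H a).Normal := ⟨fun x hx y w hw => by
  have h1 : (y : G)⁻¹ • w ∈ orbit H a := by
    obtain ⟨z, rfl⟩ := hw
    exact ⟨y⁻¹ * z, by simp [Subgroup.smul_def, mul_smul]⟩
  rw [Subgroup.coe_mul, Subgroup.coe_mul, Subgroup.coe_inv, mul_smul, mul_smul, hx _ h1,
    smul_inv_smul]⟩

namespace Hyp

variable (h : Hyp H a)
include h

theorem eq_one_of_fix {g : G} (hg : ∀ w : Ω, g • w = w) : g = 1 := by
  haveI := h.faithful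
  exact eq_of_smul_eq_smul (α := Ω) fun w => by rw [hg w, one_smul]

section Minimal

variable {M : Subgroup H} [hMn : M.Normal] (hM : M ≤ axGroup H a) (hp : CharPerfect M)
include hM hp

/-- The normal subgroup is semiregular off the axis. -/
theorem semiregular {P : Ω} (hP : P ∉ orbit H a) {m : M} (hm : m • P = P) : m = 1 := by
  haveI := h.finG
  by_contra hm1
  set A : Subgroup M := stabilizer M P with hA
  have hAx : ∀ x : M, Axial H a ((x : H) : G) := fun x => mem_axGroup.1 (hM x.2)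
  refine hp.not_frobenius (A := A) (Frobenius.isFrobeniusComplement_iff.2 ⟨?_, ?_, ?_⟩)
  · exact fun e => hm1 (Subgroup.mem_bot.1 (e ▸ (show m ∈ A from hm)))
  · intro e
    refine hm1 (Subtype.ext (Subtype.ext (h.eq_one_of_fix fun w => ?_)))
    by_cases hw : w ∈ orbit H a
    · exact (hAx m).2 w hw
    obtain ⟨x, hx, rfl⟩ := h.transitive_outside hP hw
    have hmem : (⟨x, hx⟩ : H)⁻¹ * m * (⟨x, hx⟩ : H)⁻¹⁻¹ ∈ M := hMn.conj_mem _ m.2 _
    have := (show (⟨_, hmem⟩ : M) ∈ A from e ▸ Subgroup.mem_top _)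
    rw [hA, mem_stabilizer_iff] at this
    change (x⁻¹ * ((m : H) : G) * x⁻¹⁻¹) • P = P at this
    rwa [inv_inv, mul_smul, mul_smul, inv_smul_eq_iff] at this
  · intro g hg x hx hx'
    by_contra hx1
    have hgP : ((g : H) : G) • P ∉ orbit H a := by
      rintro ⟨z, hz⟩
      simp only [Subgroup.smul_def] at hz
      refine hP ⟨(g : H)⁻¹ * z, ?_⟩
      simp only [Subgroup.smul_def, Subgroup.coe_mul, Subgroup.coe_inv, mul_smul]
      rw [hz, inv_smul_smul]
    refine hg (h.fixed_unique (hAx x) (fun e => hx1 (Subtype.ext (Subtype.ext e))) hP hgP hx ?_).symm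
    rw [hA, mem_stabilizer_iff, mul_smul, mul_smul, inv_smul_eq_iff] at hx'
    exact hx'

/-- A non-identity element fixes exactly `k` blocks. -/
theorem fixed_card {m : M} (hm : m ≠ 1) :
    (fixedBy (G ⧸ H) ((m : H) : G)).ncard = kk H a := by
  haveI := h.finΩ
  rw [← Nat.card_coe_set_eq, ← h.fixed_eq, Nat.card_coe_set_eq]
  unfold kk
  congr 1
  refine Set.Subset.antisymm (fun w hw => ?_) fun w hw => (mem_axGroup.1 (hM m.2)).2 w hw
  by_contra hw'
  exact hm (h.semiregular hM hp hw' hw)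

theorem false_of_charPerfect : False := by
  classical
  haveI := h.finG
  haveI := h.finY
  haveI := h.finΩ
  haveI := h.faithfulBlocks
  have hk2 := h.two_le_k
  have hbase : ∀ x : M, x • base H = base H := fun x => smul_base.2 x.1.2
  have hAx : ∀ x : M, Axial H a ((x : H) : G) := fun x => mem_axGroup.1 (hM x.2)
  have hcard : ∀ {m : M}, m ≠ 1 → (fixedBy (G ⧸ H) m).ncard = kk H a :=
    fun hm => h.fixed_card hM hp hm
  have hsub : ∀ {g x : M}, x ∈ fixingSubgroup M (fixedBy (G ⧸ H) g) →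
      fixedBy (G ⧸ H) g ⊆ fixedBy (G ⧸ H) x := fun hx y hy => (mem_fixingSubgroup_iff M).1 hx y hy
  have heq : ∀ {g x : M}, g ≠ 1 → x ≠ 1 → x ∈ fixingSubgroup M (fixedBy (G ⧸ H) g) →
      fixedBy (G ⧸ H) g = fixedBy (G ⧸ H) x := fun {g x} hg hx1 hx =>
    Set.eq_of_subset_of_ncard_le (hsub hx) (by rw [hcard hg, hcard hx1])
  have hother : ∀ {g : M}, g ≠ 1 → ∃ C ∈ fixedBy (G ⧸ H) g, C ≠ base H := by
    intro g hg
    refine Set.exists_ne_of_one_lt_ncard ?_ (base H)
    rw [hcard hg]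
    omega
  let P : Partition73.Part M :=
    { comp := fun g => fixingSubgroup M (fixedBy (G ⧸ H) g)
      mem := fun g => (mem_fixingSubgroup_iff M).2 fun y hy => hy
      eq_of_mem := fun {g x} hg hx hx1 => by rw [heq hg hx1 hx]
      ne_top := fun {g} hg htop => by
        obtain ⟨C, hC, hCB⟩ := hother hg
        refine hg (Subtype.ext (Subtype.ext (eq_of_smul_eq_smul (α := G ⧸ H) fun y => ?_)))
        change ((g : H) : G) • y = (1 : G) • y
        rw [one_smul]
        by_cases hy : y = base H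
        · rw [hy]; exact hbase g
        obtain ⟨x, hx, rfl⟩ := h.transitive_blocks hCB hy
        have hmem : (⟨x, hx⟩ : H)⁻¹ * g * (⟨x, hx⟩ : H)⁻¹⁻¹ ∈ M := hMn.conj_mem _ g.2 _
        have := (mem_fixingSubgroup_iff M).1
          (show (⟨_, hmem⟩ : M) ∈ fixingSubgroup M (fixedBy (G ⧸ H) g) from htop ▸ Subgroup.mem_top _)
          C hC
        change (x⁻¹ * ((g : H) : G) * x⁻¹⁻¹) • C = C at this
        rwa [inv_inv, mul_smul, mul_smul, inv_smul_eq_iff] at this
      conj_mem := fun {g x} b hg hx => (mem_fixingSubgroup_iff M).2 fun y hy => by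
        have hy' : b⁻¹ • y ∈ fixedBy (G ⧸ H) g := by
          rw [mem_fixedBy] at hy ⊢
          rw [mul_smul, mul_smul] at hy
          rw [eq_inv_smul_iff]
          exact hy
        rw [mul_smul, mul_smul, (mem_fixingSubgroup_iff M).1 hx _ hy', smul_inv_smul] }
  refine hp.no_partition P fun r hr hrd S g hg hle => ?_
  haveI := Fact.mk hr
  set F₀ := fixedBy (G ⧸ H) g with hF₀
  have hS : ∀ s ∈ (S : Subgroup M), ∀ y ∈ F₀, s • y = y :=
    fun s hs y hy => (mem_fixingSubgroup_iff M).1 (hle hs) y hy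
  obtain ⟨C, hC, hCB⟩ := hother hg
  -- all orbits of `M` off the base have the same size
  set t := (orbit M C).ncard with ht
  have hsize : ∀ y : G ⧸ H, y ≠ base H → (orbit M y).ncard = t := by
    intro y hy
    obtain ⟨x, hx, rfl⟩ := h.transitive_blocks hCB hy
    rw [ht, ← Set.ncard_image_of_injective (orbit M C) (MulAction.injective x)]
    congr 1
    ext z
    constructor
    · rintro ⟨m, rfl⟩
      have hmem : (⟨x, hx⟩ : H)⁻¹ * m * (⟨x, hx⟩ : H)⁻¹⁻¹ ∈ M := hMn.conj_mem _ m.2 _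
      refine ⟨(⟨_, hmem⟩ : M) • C, mem_orbit C (⟨_, hmem⟩ : M), ?_⟩
      show x • ((x⁻¹ * ((m : H) : G) * x⁻¹⁻¹) • C) = _
      rw [inv_inv, mul_smul, mul_smul, smul_inv_smul]
      rfl
    · rintro ⟨_, ⟨m, rfl⟩, rfl⟩
      have hmem : (⟨x, hx⟩ : H) * m * (⟨x, hx⟩ : H)⁻¹ ∈ M := hMn.conj_mem _ m.2 _
      refine ⟨⟨_, hmem⟩, ?_⟩
      show (x * ((m : H) : G) * x⁻¹) • x • C = x • ((m : H) : G) • C
      rw [mul_smul, mul_smul, inv_smul_smul]
  -- the orbit sizes are small
  have htb : (lam H a : ℤ) * t ≤ (kk H a : ℤ) - 1 := by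
    let out : G ⧸ H → Set Ω := fun y => meet H a y y \ orbit H a
    have hdis : ∀ y ∈ orbit M C, ∀ z ∈ orbit M C, y ≠ z → Disjoint (out y) (out z) := by
      intro y hy z hz hyz
      obtain ⟨m, rfl⟩ : z ∈ orbit M y := (orbit_eq_iff.2 hy).symm ▸ hz
      rw [Set.disjoint_left]
      exact fun w hw hw' => hw.2 (h.meet_moved (hAx m) (Ne.symm hyz) hw.1.1 hw'.1.1)
    have hout : ∀ y ∈ orbit M C, (out y).ncard = kk H a - lam H a := by
      intro y hy
      have hyB : y ≠ base H := by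
        obtain ⟨m, rfl⟩ := hy
        exact fun e => hCB (smul_left_cancel m (e.trans (hbase m).symm))
      have e : out y = meet H a y y \ meet H a y (base H) := by
        ext w
        exact ⟨fun hw => ⟨hw.1, fun hw' => hw.2 (inc_base.1 hw'.2)⟩,
          fun hw => ⟨hw.1, fun hw' => hw.2 ⟨hw.1.1, inc_base.2 hw'⟩⟩⟩
      rw [e, Set.ncard_sdiff (show meet H a y (base H) ⊆ meet H a y y from fun w hw => ⟨hw.1, hw.1⟩),
        ncard_meet_self, h.meet_ne hyB]
      rfl
    haveI := Fintype.ofFinite Ω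
    haveI := Fintype.ofFinite (G ⧸ H)
    have hsum : ((orbit M C).toFinset.biUnion fun y => (out y).toFinset).card =
        ∑ y ∈ (orbit M C).toFinset, ((out y).toFinset).card :=
      Finset.card_biUnion fun y hy z hz hyz =>
        Set.disjoint_toFinset.2 (hdis y (Set.mem_toFinset.1 hy) z (Set.mem_toFinset.1 hz) hyz)
    have hle' : ((orbit M C).toFinset.biUnion fun y => (out y).toFinset).card ≤ (orbit H a)ᶜ.ncard := by
      rw [Set.ncard_eq_toFinset_card']
      refine Finset.card_le_card fun w hw => ?_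
      obtain ⟨y, -, hw⟩ := Finset.mem_biUnion.1 hw
      exact Set.mem_toFinset.2 (Set.mem_toFinset.1 hw).2
    rw [hsum, Finset.sum_congr rfl (fun y hy => by
      rw [← Set.ncard_eq_toFinset_card', hout y (Set.mem_toFinset.1 hy)]),
      Finset.sum_const, ← Set.ncard_eq_toFinset_card', smul_eq_mul, ← ht] at hle'
    have hc := Set.ncard_add_ncard_compl (orbit H a)
    have hl := h.lam_lt
    have hp' := h.param
    have e1 : ((kk H a : ℤ) - lam H a) * t ≤ (Nat.card Ω : ℤ) - kk H a := by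
      have : ((t * (kk H a - lam H a) : ℕ) : ℤ) ≤ ((orbit H a)ᶜ.ncard : ℤ) := by exact_mod_cast hle'
      rw [Nat.cast_mul, Nat.cast_sub hl.le] at this
      have hc' : ((orbit H a).ncard : ℤ) + ((orbit H a)ᶜ.ncard : ℤ) = Nat.card Ω := by exact_mod_cast hc
      unfold kk at *
      linarith
    have e2 := mul_le_mul_of_nonneg_left e1 (Int.natCast_nonneg (lam H a))
    have e3 : (lam H a : ℤ) * ((Nat.card Ω : ℤ) - kk H a) =
        ((kk H a : ℤ) - 1) * ((kk H a : ℤ) - lam H a) := by linear_combination (-1 : ℤ) * hp'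
    have hpos : (0 : ℤ) < (kk H a : ℤ) - lam H a := by omega
    rw [e3, ← mul_assoc, mul_comm (lam H a : ℤ), mul_assoc, mul_comm ((kk H a : ℤ) - 1)] at e2
    exact le_of_mul_le_mul_left e2 hpos
  -- `S` fixes a block in every orbit
  have hrt : ¬ r ∣ t := by
    intro hd
    have hst : (S : Subgroup M) ≤ stabilizer M C := fun s hs => hS s hs C hC
    apply S.not_dvd_index
    refine hd.trans ?_
    rw [ht, ← index_stabilizer]
    exact Subgroup.index_dvd_of_le hst
  have hSne : ∃ s ∈ (S : Subgroup M), s ≠ 1 :=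
    (Subgroup.bot_or_exists_ne_one (S : Subgroup M)).resolve_left (S.ne_bot_of_dvd_card hrd)
  obtain ⟨s₀, hs₀, hs₀1⟩ := hSne
  have hcover : ∀ y : G ⧸ H, y ≠ base H → ∃ f ∈ F₀ \ {base H}, y ∈ orbit M f := by
    intro y hy
    letI : MulAction (S : Subgroup M) (orbit M y) :=
      MulAction.compHom (orbit M y) (S : Subgroup M).subtype
    obtain ⟨z, hz⟩ := S.isPGroup'.nonempty_fixed_point_of_prime_not_dvd_card (orbit M y)
      (by rw [Nat.card_coe_set_eq, hsize y hy]; exact hrt)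
    refine ⟨z, ⟨?_, ?_⟩, (orbit_eq_iff.2 z.2).symm ▸ mem_orbit_self y⟩
    · rw [hF₀, heq hg hs₀1 (hle hs₀), mem_fixedBy]
      exact congrArg Subtype.val (hz ⟨s₀, hs₀⟩)
    · obtain ⟨m, hm⟩ := z.2
      intro e
      exact hy (smul_left_cancel m (hm.trans (e.trans (hbase m).symm)))
  haveI := Fintype.ofFinite (G ⧸ H)
  have hcount : Nat.card Ω - 1 ≤ (kk H a - 1) * t := by
    have hF : ((F₀ \ {base H}).toFinset).card = kk H a - 1 := by
      rw [← Set.ncard_eq_toFinset_card', Set.ncard_sdiff_singleton_of_mem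
        (show base H ∈ F₀ from hbase g), hcard hg]
    have h1 : (Finset.univ.erase (base H)) ⊆
        (F₀ \ {base H}).toFinset.biUnion fun f => (orbit M f).toFinset := by
      intro y hy
      obtain ⟨f, hf, hyf⟩ := hcover y (Finset.mem_erase.1 hy).1
      exact Finset.mem_biUnion.2 ⟨f, Set.mem_toFinset.2 hf, Set.mem_toFinset.2 hyf⟩
    have h2 := (Finset.card_le_card h1).trans (Finset.card_biUnion_le_card_mul _ _ t fun f hf => by
      rw [← Set.ncard_eq_toFinset_card', hsize f (Set.mem_toFinset.1 hf).2])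
    rwa [Finset.card_erase_of_mem (Finset.mem_univ _), Finset.card_univ, hF,
      ← Nat.card_eq_fintype_card, h.card_blocks] at h2
  have hp' := h.param
  have h3 := h.k_add_two_le
  have hl := h.one_le_lam
  have hcount' : (Nat.card Ω : ℤ) - 1 ≤ ((kk H a : ℤ) - 1) * t := by
    have : (((Nat.card Ω - 1 : ℕ)) : ℤ) ≤ (((kk H a - 1) * t : ℕ) : ℤ) := by exact_mod_cast hcount
    rw [Nat.cast_mul, Nat.cast_sub (by omega), Nat.cast_sub (by omega)] at this
    simpa using this
  have e1 := mul_le_mul_of_nonneg_left hcount' (Int.natCast_nonneg (lam H a))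
  have e2 := mul_le_mul_of_nonneg_left htb (show (0 : ℤ) ≤ (kk H a : ℤ) - 1 by omega)
  rw [← hp'] at e1
  have e3 : (kk H a : ℤ) * ((kk H a : ℤ) - 1) ≤ ((kk H a : ℤ) - 1) * ((kk H a : ℤ) - 1) := by
    refine e1.trans ?_
    calc (lam H a : ℤ) * (((kk H a : ℤ) - 1) * t) = ((kk H a : ℤ) - 1) * ((lam H a : ℤ) * t) := by ring
      _ ≤ _ := e2
  have : (2 : ℤ) ≤ kk H a := by exact_mod_cast hk2
  nlinarith

end Minimal

/-- An abelian normal subgroup of `H` fixes the orbit pointwise, if some element does. -/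
theorem exists_abelian (hK : axGroup H a ≠ ⊥) :
    ∃ N : Subgroup H, N.Normal ∧ N ≤ axGroup H a ∧ N ≠ ⊥ ∧ IsMulCommutative N := by
  haveI := h.finG
  obtain ⟨M, ⟨hMn, hMle, hM1⟩, hmin⟩ := Set.exists_min_image
    {N : Subgroup H | N.Normal ∧ N ≤ axGroup H a ∧ N ≠ ⊥} (fun N => Nat.card N) (Set.toFinite _)
    ⟨axGroup H a, inferInstance, le_rfl, hK⟩
  by_contra hno
  haveI := hMn
  haveI : Nontrivial M := (Subgroup.nontrivial_iff_ne_bot M).2 hM1
  have hchar : ∀ C : Subgroup M, C.Characteristic → C = ⊥ ∨ C = ⊤ := by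
    intro C hC
    haveI := hC
    by_cases hC1 : C = ⊥
    · exact Or.inl hC1
    refine Or.inr (Subgroup.eq_top_of_card_eq C (le_antisymm (Subgroup.card_le_card_group C) ?_))
    rw [← Subgroup.card_map_of_injective (K := C) M.subtype_injective]
    refine hmin _ ⟨inferInstance, (Subgroup.map_subtype_le C).trans hMle, ?_⟩
    rwa [Ne, Subgroup.map_eq_bot_iff_of_injective _ M.subtype_injective]
  refine h.false_of_charPerfect hMle ⟨⟨?_⟩, inferInstance, hchar⟩
  rcases hchar (commutator M) inferInstance with e | e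
  · exfalso
    refine hno ⟨M, hMn, hMle, hM1, ⟨⟨fun x y => ?_⟩⟩⟩
    rw [commutator_def, Subgroup.commutator_eq_bot_iff_le_centralizer] at e
    exact Subgroup.mem_centralizer_iff.1 (e (Subgroup.mem_top y)) x (Subgroup.mem_top x)
  · exact e

/-- The conclusion of O'Nan's theorem, transferred from the blocks to the points. -/
theorem exists_psl (hK : axGroup H a ≠ ⊥) :
    ∃ (m : ℕ) (F : Type) (_ : Field F) (_ : Fintype F), 2 ≤ m ∧
      Nat.card Ω = (Fintype.card F ^ (m + 1) - 1) / (Fintype.card F - 1) ∧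
      ∃ L : Subgroup G, L.Normal ∧
        Nonempty (L ≃* Matrix.ProjectiveSpecialLinearGroup (Fin (m + 1)) F) ∧
        Subgroup.centralizer (L : Set G) = ⊥ := by
  haveI := h.finG
  haveI := h.finY
  haveI := h.finΩ
  haveI := h.faithfulBlocks
  obtain ⟨N, hNn, hNle, hN1, hNc⟩ := h.exists_abelian hK
  haveI := hNc
  obtain ⟨x, hx, hx1⟩ := N.bot_or_exists_ne_one.resolve_left hN1
  have hfix : ∃ y : G ⧸ H, y ≠ base H ∧ (x : G) • y = y := by
    have hk : 2 ≤ (fixedBy (G ⧸ H) (x : G)).ncard := by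
      rw [← Nat.card_coe_set_eq]
      exact h.two_le_k.trans (h.k_le_fixed (mem_axGroup.1 (hNle hx)))
    obtain ⟨y, hy, hyB⟩ := Set.exists_ne_of_one_lt_ncard (s := fixedBy (G ⧸ H) (x : G)) (by omega) (base H)
    exact ⟨y, hyB, hy⟩
  have hstab : ∀ g : G, g ∈ stabilizer G (base H) ↔ g ∈ H := fun g => smul_base
  obtain ⟨p, A, y, hxy, hctx⟩ := ONan36.exists_ctx h.twoBlocks (base H) (N.map H.subtype)
    (by rintro _ ⟨z, -, rfl⟩; exact (hstab _).2 z.2)
    (by
      rintro g hg _ ⟨z, hz, rfl⟩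
      exact ⟨⟨g, (hstab g).1 hg⟩ * z * ⟨g, (hstab g).1 hg⟩⁻¹, hNn.conj_mem z hz _, rfl⟩)
    ⟨⟨fun ⟨u, hu⟩ ⟨w, hw⟩ => by
      obtain ⟨u', hu', rfl⟩ := hu
      obtain ⟨w', hw', rfl⟩ := hw
      exact Subtype.ext (congrArg (fun z : N => ((z : H) : G))
        (hNc.is_comm.comm (⟨u', hu'⟩ : N) ⟨w', hw'⟩))⟩⟩
    ⟨x, ⟨x, hx, rfl⟩, fun e => hx1 (Subtype.ext e), hfix⟩
  obtain ⟨F, iF, iT, n, hn, hcard, L, hL, hLc, e⟩ := hctx.exists_psl_normal hxy
  obtain ⟨m, rfl⟩ : ∃ m, n = m + 1 := ⟨n - 1, by omega⟩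
  refine ⟨m, F, iF, iT, by omega, ?_, L, hL, e, hLc⟩
  rw [h.card_blocks] at hcard
  have hq : 1 < Fintype.card F := Fintype.one_lt_card
  rw [← hcard, Nat.mul_div_cancel _ (by omega)]

end Hyp

end Cfsg.Agent.Lib.ONanDesign36
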